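import Cfsg.Agent.Lib.CurtisTits.PresCheck

/-! Certificate for the presentations of type D4 (written out by a script). -/

set_option autoImplicit false

namespace Cfsg.Agent.Lib.CurtisTits.D4

def selfList : List ℕ := [77969, 57409, 77904, 73792, 65681, 57457, 61585, 57473]

def tv0 : ℕ := 0x40000000000000000000000000000000000000000000000000300000000000000000000000000000000000000000000000002000000000000000000000000000000000000000000000000420000000000000000000000000000000000000000000000003200000000000000000000000000000000000000000000000432000000000000000000000000000000000000000000000000000000000000000000000000000000000000000000000000002100000000000000000000000000000000000000000000000421000000000000000000000000000000000000000000000003210000000000000000000000000000000000000000000000432100000000000000000000000000000000000000000000024123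

def tv1 : ℕ := 0x40000000000000000000000000000000000000000000000000300000000000000000000000000000000000000000000000000000000000000000000000000000000000000000000000000420000000000000000000000000000000000000000000000003200000000000000000000000000000000000000000000000423000000000000000000000000000000000000000000000000010000000000000000000000000000000000000000000000001200000000000000000000000000000000000000000000000421000000000000000000000000000000000000000000000003210000000000000000000000000000000000000000000000312400000000000000000000000000000000000000000000423124

def tv2 : ℕ := 0x40000000000000000000000000000000000000000000000000000000000000000000000000000000000000000000000000002000000000000000000000000000000000000000000000000420000000000000000000000000000000000000000000000002300000000000000000000000000000000000000000000000423000000000000000000000000000000000000000000000000010000000000000000000000000000000000000000000000001200000000000000000000000000000000000000000000000412000000000000000000000000000000000000000000000001230000000000000000000000000000000000000000000000412300000000000000000000000000000000000000000000024321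

def tv3 : ℕ := 0x300000000000000000000000000000000000000000000000002000000000000000000000000000000000000000000000000240000000000000000000000000000000000000000000000003200000000000000000000000000000000000000000000000324000000000000000000000000000000000000000000000000010000000000000000000000000000000000000000000000001200000000000000000000000000000000000000000000000124000000000000000000000000000000000000000000000003120000000000000000000000000000000000000000000000312400000000000000000000000000000000000000000000024321

def tvec : List ℕ := [tv0, tv1, tv2, tv3]

def rangeList : List ℕ :=
  [656386, 721923, 198400, 722694, 199169, 1051665, 1248276, 1248533, 1314070, 1445399]

def presCert : PresCert := ⟨selfList, tvec, rangeList⟩

end Cfsg.Agent.Lib.CurtisTits.D4
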