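import Cfsg.Agent.Lib.CurtisTits.F4Pres
import Cfsg.Agent.Lib.CurtisTits.F4
import Cfsg.Prelude.Def_ChevF4

/-! The presentation certificate of type F4 passes the checks. -/

set_option autoImplicit false

namespace Cfsg.Agent.Lib.CurtisTits.F4

open Cfsg.Lie Cfsg.Agent.Lib.Chev

theorem presChecked : PresChecked chevF4 Cfsg.Agent.Lib.Chev.F4.cert cert presCert :=
  ⟨by decide +kernel, by decide +kernel, by decide +kernel, by decide +kernel, by decide +kernel, by decide +kernel⟩

end Cfsg.Agent.Lib.CurtisTits.F4
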